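import Groth.Prelude.Def_Frob
import Groth.Prelude.Def_Flat
import Mathlib

/-!
# The Frobenius is a radicial integral surjection
-/

set_option autoImplicit false

universe u

open CategoryTheory AlgebraicGeometry

namespace Groth.Agent.FrobRadicial

theorem isUnivHomeo {X Y : Scheme.{u}} (f : X ⟶ Y) [IsIntegralHom f] [UniversallyInjective f] [Surjective f] :
    FlatMor.IsUnivHomeo f := by
  intro X' Y' i₁ i₂ f' h
  have : IsIntegralHom f' := MorphismProperty.of_isPullback h.flip inferInstance
  have : UniversallyInjective f' := MorphismProperty.of_isPullback h.flip inferInstance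
  have : Surjective f' := MorphismProperty.of_isPullback h.flip inferInstance
  exact isHomeomorph_iff_continuous_isClosedMap_bijective.mpr
    ⟨f'.continuous, f'.isClosedMap, f'.injective, f'.surjective⟩

theorem isPurelyInseparable_of_pow {F E : Type u} [Field F] [Field E] (φ : F →+* E) (p : ℕ) [Fact p.Prime]
    (hp : (p : F) = 0) (h : ∀ y : E, ∃ z : F, φ z = y ^ p) : φ.IsPurelyInseparable := by
  algebraize [φ]
  have : CharP F p := (CharP.charP_iff_prime_eq_zero Fact.out).2 hp
  have : ExpChar F p := ExpChar.prime Fact.out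
  show IsPurelyInseparable F E
  refine (isPurelyInseparable_iff_pow_mem F p).2 fun y => ⟨1, ?_⟩
  obtain ⟨z, hz⟩ := h y
  exact ⟨z, by rw [pow_one]; exact hz⟩

variable (p : ℕ) [Fact p.Prime] (X : Scheme.{u}) [FrobSch.IsCharP X p]

instance isAffineHom_frob : IsAffineHom (FrobSch.frob X p) := ⟨fun _ hU => hU⟩

instance isIntegralHom_frob : IsIntegralHom (FrobSch.frob X p) := by
  refine ⟨fun U hU => ?_⟩
  intro (s : Γ(X, U))
  refine ⟨(Polynomial.X ^ p - Polynomial.C s : Polynomial Γ(X, U)), Polynomial.monic_X_pow_sub_C _ (Fact.out : p.Prime).ne_zero, ?_⟩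
  rw [Polynomial.eval₂_sub, Polynomial.eval₂_X_pow, Polynomial.eval₂_C]
  exact sub_eq_zero.2 (FrobSch.frob_app X p U s).symm

instance surjective_frob : Surjective (FrobSch.frob X p) := ⟨fun x => ⟨x, rfl⟩⟩

theorem residueFieldMap_frob (x : X) :
    ((FrobSch.frob X p).residueFieldMap x).hom.IsPurelyInseparable := by
  refine isPurelyInseparable_of_pow _ p ?_ fun y => ?_
  · have h := congrArg (X.evaluation ⊤ x trivial).hom (FrobSch.natCast_eq_zero_app X p ⊤)
    rw [map_natCast, map_zero] at h
    exact h
  · obtain ⟨t, rfl⟩ := IsLocalRing.residue_surjective (R := X.presheaf.stalk x) y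
    obtain ⟨U, hxU, s, rfl⟩ := X.presheaf.exists_germ_eq (x := x) t
    refine ⟨(X.evaluation U x hxU).hom s, ?_⟩
    refine (AlgebraicGeometry.Scheme.evaluation_naturality_apply (FrobSch.frob X p) x hxU s).trans ?_
    exact map_pow (X.evaluation U x hxU).hom s p

instance universallyInjective_frob : UniversallyInjective (FrobSch.frob X p) :=
  ((tfae_universallyInjective (FrobSch.frob X p)).out 2 0 :
    Function.Injective (FrobSch.frob X p) ∧ (∀ x, ((FrobSch.frob X p).residueFieldMap x).hom.IsPurelyInseparable) ↔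
      UniversallyInjective (FrobSch.frob X p)).1 ⟨fun _ _ h => h, residueFieldMap_frob p X⟩

end Groth.Agent.FrobRadicial
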